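import Groth.Agent.ProjDualR.HomAffine
import Groth.Agent.AModX.Res

/-!
# Isomorphisms of modules given on a basis of affine opens
-/

universe u

open CategoryTheory CategoryTheory.Limits AlgebraicGeometry TopologicalSpace Opposite

noncomputable section

namespace Groth.Agent.ExtDet90

variable {X : Scheme.{u}}

/-- The affine opens satisfying `Q`, as a family of opens. -/
abbrev B (Q : X.affineOpens → Prop) : {U : X.affineOpens // Q U} → Opens X := fun U => U.1.1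

theorem basis (Q : X.affineOpens → Prop) (hQ : ∀ U V : X.affineOpens, V.1 ≤ U.1 → Q U → Q V)
    (hcov : ∀ x : X, ∃ U : X.affineOpens, Q U ∧ x ∈ U.1) : Opens.IsBasis (Set.range (B Q)) := by
  rw [Opens.isBasis_iff_nbhd]
  intro W x hx
  obtain ⟨U, hU, hxU⟩ := hcov x
  obtain ⟨V, hV, hxV, hVW⟩ := exists_isAffineOpen_mem_and_subset (x := x) (U := W ⊓ U.1) ⟨hx, hxU⟩
  exact ⟨V, ⟨⟨⟨V, hV⟩, hQ U ⟨V, hV⟩ (fun y hy => (hVW hy).2) hU⟩, rfl⟩, hxV, fun y hy => (hVW hy).1⟩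

variable {M N : X.Modules} {Q : X.affineOpens → Prop}

theorem hom_ext (hQ : ∀ U V : X.affineOpens, V.1 ≤ U.1 → Q U → Q V)
    (hcov : ∀ x : X, ∃ U : X.affineOpens, Q U ∧ x ∈ U.1) (f g : M ⟶ N)
    (h : ∀ U : X.affineOpens, Q U → f.app U.1 = g.app U.1) : f = g := by
  have h' : f.mapPresheaf = g.mapPresheaf :=
    TopCat.Sheaf.hom_ext (M.presheaf) (⟨N.presheaf, N.isSheaf⟩ : TopCat.Sheaf AddCommGrpCat.{u} X)
      (basis Q hQ hcov) fun i => h i.1 i.2
  exact Scheme.Modules.hom_ext f g fun U => congr_app h' (op U)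

theorem exists_hom (hQ : ∀ U V : X.affineOpens, V.1 ≤ U.1 → Q U → Q V)
    (hcov : ∀ x : X, ∃ U : X.affineOpens, Q U ∧ x ∈ U.1)
    (φ : ∀ U : X.affineOpens, Q U → (Γ(M, U.1) →ₗ[Γ(X, U.1)] Γ(N, U.1)))
    (hres : ∀ (U V : X.affineOpens) (h : V.1 ≤ U.1) (hU : Q U) (hV : Q V) (x : Γ(M, U.1)),
      AModX.res N h (φ U hU x) = φ V hV (AModX.res M h x)) :
    ∃ f : M ⟶ N, ∀ (U : X.affineOpens) (hU : Q U) (x : Γ(M, U.1)), f.app U.1 x = φ U hU x := by
  let N' : TopCat.Sheaf AddCommGrpCat.{u} X := ⟨N.presheaf, N.isSheaf⟩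
  let α : (inducedFunctor (B Q)).op ⋙ M.presheaf ⟶ (inducedFunctor (B Q)).op ⋙ N'.1 :=
    { app := fun U => AddCommGrpCat.ofHom (φ U.unop.1 U.unop.2).toAddMonoidHom
      naturality := fun U V i => by
        refine AddCommGrpCat.ext fun x => ?_
        exact (hres U.unop.1 V.unop.1 (leOfHom i.unop.hom) U.unop.2 V.unop.2 x).symm }
  let β : M.presheaf ⟶ N.presheaf :=
    TopCat.Sheaf.restrictHomEquivHom M.presheaf N' (basis Q hQ hcov) α
  have hβ : ∀ (U : X.affineOpens) (hU : Q U) (x : Γ(M, U.1)), β.app (op U.1) x = φ U hU x := fun U hU x => by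
    have h := TopCat.Sheaf.extend_hom_app M.presheaf N' (basis Q hQ hcov) α ⟨U, hU⟩
    exact congrArg (fun g => (ConcreteCategory.hom g) x) h
  have hlin : ∀ (W : X.Opens) (r : Γ(X, W)) (m : Γ(M, W)),
      β.app (op W) (r • m) = r • (β.app (op W) m : Γ(N, W)) := by
    intro W r m
    refine AModX.eq_of_locally (M := N) _ _ fun p hp => ?_
    obtain ⟨U, hU, hpU⟩ := hcov p
    obtain ⟨V, hV, hpV, hVW0⟩ := exists_isAffineOpen_mem_and_subset (x := p) (U := W ⊓ U.1) ⟨hp, hpU⟩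
    have hVW : V ≤ W := fun y hy => (hVW0 hy).1
    have hQV : Q ⟨V, hV⟩ := hQ U ⟨V, hV⟩ (fun y hy => (hVW0 hy).2) hU
    refine ⟨V, hVW, hpV, ?_⟩
    have nat : ∀ y : Γ(M, W), AModX.res N hVW (β.app (op W) y) =
        φ ⟨V, hV⟩ hQV (AModX.res M hVW y) := fun y => by
      refine Eq.trans ?_ (hβ ⟨V, hV⟩ hQV _)
      exact (ConcreteCategory.congr_hom (β.naturality (homOfLE hVW : V ⟶ W).op) y).symm
    rw [nat, AModX.res_smul, map_smul, AModX.res_smul, nat]
  exact ⟨⟨PresheafOfModules.homMk β fun W r m => hlin W.unop r m⟩, hβ⟩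

/-- An isomorphism of modules from compatible isomorphisms on a basis of affine opens. -/
theorem nonempty_iso (hQ : ∀ U V : X.affineOpens, V.1 ≤ U.1 → Q U → Q V)
    (hcov : ∀ x : X, ∃ U : X.affineOpens, Q U ∧ x ∈ U.1)
    (φ : ∀ U : X.affineOpens, Q U → (Γ(M, U.1) ≃ₗ[Γ(X, U.1)] Γ(N, U.1)))
    (hres : ∀ (U V : X.affineOpens) (h : V.1 ≤ U.1) (hU : Q U) (hV : Q V) (x : Γ(M, U.1)),
      AModX.res N h (φ U hU x) = φ V hV (AModX.res M h x)) :
    Nonempty (M ≅ N) := by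
  obtain ⟨f, hf⟩ := exists_hom hQ hcov (fun U hU => (φ U hU).toLinearMap) hres
  obtain ⟨g, hg⟩ := exists_hom hQ hcov (fun U hU => (φ U hU).symm.toLinearMap) fun U V h hU hV x => by
    apply (φ V hV).injective
    show φ V hV (AModX.res M h ((φ U hU).symm x)) = φ V hV ((φ V hV).symm (AModX.res N h x))
    rw [← hres U V h hU hV, LinearEquiv.apply_symm_apply, LinearEquiv.apply_symm_apply]
  refine ⟨⟨f, g, hom_ext hQ hcov _ _ fun U hU => ?_, hom_ext hQ hcov _ _ fun U hU => ?_⟩⟩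
  · refine AddCommGrpCat.ext fun x => ?_
    show g.app U.1 (f.app U.1 x) = x
    rw [hf U hU, hg U hU]
    exact (φ U hU).symm_apply_apply x
  · refine AddCommGrpCat.ext fun x => ?_
    show f.app U.1 (g.app U.1 x) = x
    rw [hg U hU, hf U hU]
    exact (φ U hU).apply_symm_apply x

end Groth.Agent.ExtDet90
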