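import Groth.Agent.H23.Frame
import Groth.Agent.InvX.Tensor
import Groth.Agent.H44Adj.Twist
import Groth.Agent.AModX.Res
import Mathlib.LinearAlgebra.TensorProduct.Basis

/-!
# Frames of any rank: bases on sections and stalks, tensor products
-/

set_option autoImplicit false
set_option linter.style.haveILetI false
set_option backward.isDefEq.respectTransparency false
set_option backward.isDefEq.respectTransparency.types false

universe u

open CategoryTheory AlgebraicGeometry TopologicalSpace Opposite MonoidalCategory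
open scoped TensorProduct

noncomputable section

namespace Groth.Agent.ExtDet90

open Groth.Agent.AModX Groth.Agent.InvX Groth.Agent.H23

variable {X : Scheme.{u}} {M E F : X.Modules} {n : ℕ}

/-- The linear map of a family of sections. -/
def combL (M : X.Modules) {U : X.Opens} (s : Fin n → Γ(M, U)) :
    (Fin n → Γ(X, U)) →ₗ[Γ(X, U)] Γ(M, U) :=
  Fintype.linearCombination Γ(X, U) s

theorem combL_eq {U : X.Opens} (s : Fin n → Γ(M, U)) (c : Fin n → Γ(X, U)) :
    combL M s c = Frame.comb M s U le_rfl c := by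
  refine (Fintype.linearCombination_apply _ _ _).trans (Finset.sum_congr rfl fun i _ => ?_)
  exact congrArg (c i • ·) (res_self (s i)).symm

/-- The basis of sections given by a frame. -/
def frameBasis {U : X.Opens} {s : Fin n → Γ(M, U)} (hs : Frame.IsFrame M s) :
    Module.Basis (Fin n) Γ(X, U) Γ(M, U) :=
  Module.Basis.ofEquivFun (LinearEquiv.ofBijective (combL M s) (by
    rw [show (combL M s : (Fin n → Γ(X, U)) → Γ(M, U)) = Frame.comb M s U le_rfl from
      funext (combL_eq s)]
    exact hs U le_rfl)).symm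

@[simp] theorem frameBasis_apply {U : X.Opens} {s : Fin n → Γ(M, U)} (hs : Frame.IsFrame M s)
    (i : Fin n) : frameBasis hs i = s i := by
  classical
  rw [frameBasis, Module.Basis.coe_ofEquivFun]
  show combL M s (Pi.single i 1) = s i
  exact (Fintype.linearCombination_apply_single _ _ _ _).trans (one_smul _ _)

theorem coe_frameBasis {U : X.Opens} {s : Fin n → Γ(M, U)} (hs : Frame.IsFrame M s) :
    ⇑(frameBasis hs) = s :=
  funext (frameBasis_apply hs)

theorem frame_res {U V : X.Opens} {s : Fin n → Γ(M, U)} (hs : Frame.IsFrame M s) (h : V ≤ U) :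
    Frame.IsFrame M fun i => res M h (s i) :=
  hs.res h

/-- The combination of the germs of a family of sections. -/
def gcomb (M : X.Modules) {U : X.Opens} (s : Fin n → Γ(M, U)) {x : X} (hx : x ∈ U)
    (c : Fin n → X.presheaf.stalk x) : M.presheaf.stalk x :=
  ∑ i, c i • M.presheaf.germ U x hx (s i)

theorem germ_comb {U V : X.Opens} (s : Fin n → Γ(M, U)) (h : V ≤ U) {x : X} (hx : x ∈ V)
    (c : Fin n → Γ(X, V)) :
    M.presheaf.germ V x hx (Frame.comb M s V h c) =
      gcomb M s (h hx) fun i => X.presheaf.germ V x hx (c i) := by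
  refine (map_sum (M.presheaf.germ V x hx).hom _ _).trans (Finset.sum_congr rfl fun i _ => ?_)
  refine (QCoh.germ_smul' M hx (c i) _).trans ?_
  exact congrArg _ (germ_res' h hx (s i))

theorem exists_germs {x : X} (c : Fin n → X.presheaf.stalk x) {V : X.Opens} (hx : x ∈ V) :
    ∃ (W : X.Opens) (_ : W ≤ V) (hxW : x ∈ W) (a : Fin n → Γ(X, W)),
      (fun i => X.presheaf.germ W x hxW (a i)) = c := by
  choose W hW a ha using fun i => X.presheaf.exists_germ_eq (x := x) (c i)
  let W' : X.Opens := ⟨(V : Set X) ∩ ⋂ i, (W i : Set X), V.isOpen.inter (isOpen_iInter_of_finite fun i => (W i).isOpen)⟩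
  have h1 : W' ≤ V := fun y hy => hy.1
  have h2 : ∀ i, W' ≤ W i := fun i y hy => Set.mem_iInter.1 hy.2 i
  have hxW : x ∈ W' := ⟨hx, Set.mem_iInter.2 hW⟩
  exact ⟨W', h1, hxW, fun i => resR (h2 i) (a i), funext fun i =>
    (germ_resR' (h2 i) hxW (a i)).trans (ha i)⟩

/-- The germs of a frame form a basis of the stalk. -/
theorem gcomb_bijective {U : X.Opens} {s : Fin n → Γ(M, U)} (hs : Frame.IsFrame M s) {x : X}
    (hx : x ∈ U) : Function.Bijective (gcomb M s hx) := by
  constructor
  · intro c c' h
    obtain ⟨W₁, hW₁, hx₁, a, rfl⟩ := exists_germs c hx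
    obtain ⟨W, hW, hxW, b, rfl⟩ := exists_germs c' hx₁
    have e : (fun i => X.presheaf.germ W₁ x hx₁ (a i)) =
        fun i => X.presheaf.germ W x hxW (resR hW (a i)) :=
      funext fun i => (germ_resR' hW hxW (a i)).symm
    rw [e] at h ⊢
    rw [← germ_comb s (hW.trans hW₁) hxW, ← germ_comb s (hW.trans hW₁) hxW] at h
    obtain ⟨W', hW', i, j, hij⟩ :=
      TopCat.Presheaf.germ_eq (C := AddCommGrpCat.{u}) M.presheaf x hxW hxW _ _ h
    change res M i.le _ = res M j.le _ at hij
    have hres : ∀ d : Fin n → Γ(X, W), res M i.le (Frame.comb M s W (hW.trans hW₁) d) =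
        Frame.comb M s W' (i.le.trans (hW.trans hW₁)) fun k => resR i.le (d k) := fun d => by
      refine (map_sum (res M i.le) _ _).trans (Finset.sum_congr rfl fun k _ => ?_)
      rw [res_smul]
      exact congrArg _ (res_res (hW.trans hW₁) i.le (s k))
    rw [hres] at hij
    have h2 := (hs W' _).1 (hij.trans (hres b))
    funext k
    rw [← germ_resR' i.le hW', ← germ_resR' i.le hW']
    exact congrArg _ (congrFun h2 k)
  · intro y
    obtain ⟨W₁, h₁, z, rfl⟩ := TopCat.Presheaf.exists_germ_eq M.presheaf (x := x) y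
    let W := W₁ ⊓ U
    have hxW : x ∈ W := ⟨h₁, hx⟩
    obtain ⟨c, hc⟩ := (hs W inf_le_right).2 (res M inf_le_left z)
    refine ⟨fun i => X.presheaf.germ W x hxW (c i), ?_⟩
    rw [← germ_comb s (inf_le_right : W ≤ U) hxW, hc]
    exact germ_res' inf_le_left hxW z

/-- A family whose germs are bases is a frame. -/
theorem isFrame_of_gcomb {U : X.Opens} {s : Fin n → Γ(M, U)}
    (h : ∀ (x : X) (hx : x ∈ U), Function.Bijective (gcomb M s hx)) : Frame.IsFrame M s := by
  have hres : ∀ {V W : X.Opens} (hV : V ≤ U) (hWV : W ≤ V) (d : Fin n → Γ(X, V)),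
      res M hWV (Frame.comb M s V hV d) = Frame.comb M s W (hWV.trans hV) fun k => resR hWV (d k) := by
    intro V W hV hWV d
    refine (map_sum (res M hWV) _ _).trans (Finset.sum_congr rfl fun k _ => ?_)
    rw [res_smul]
    exact congrArg _ (res_res hV hWV (s k))
  intro V hV
  have hinj : ∀ (V : X.Opens) (hV : V ≤ U), Function.Injective (Frame.comb M s V hV) := by
    intro V hV c c' hcc
    funext k
    refine TopCat.Presheaf.section_ext X.sheaf _ _ _ fun x hx => ?_
    have h1 := congrArg (M.presheaf.germ V x hx) hcc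
    rw [germ_comb, germ_comb] at h1
    exact congrFun ((h x (hV hx)).1 h1) k
  refine ⟨hinj V hV, fun z => ?_⟩
  have hloc : ∀ p : V, ∃ (W : X.Opens) (hW : W ≤ V) (_ : p.1 ∈ W) (r : Fin n → Γ(X, W)),
      res M hW z = Frame.comb M s W (hW.trans hV) r := fun p => by
    obtain ⟨c, hc⟩ := (h p.1 (hV p.2)).2 (M.presheaf.germ V p.1 p.2 z)
    obtain ⟨W, hW, hxW, a, rfl⟩ := exists_germs c p.2
    rw [← germ_comb s (hW.trans hV) hxW, ← germ_res' hW hxW z] at hc
    obtain ⟨W', hW', i, j, hij⟩ :=
      TopCat.Presheaf.germ_eq (C := AddCommGrpCat.{u}) M.presheaf p.1 hxW hxW _ _ hc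
    change res M i.le _ = res M j.le _ at hij
    rw [hres, res_res] at hij
    exact ⟨W', i.le.trans hW, hW', fun k => resR i.le (a k), hij.symm⟩
  choose W hW hpW r hr using hloc
  have hglue : ∀ k, ∃ R : Γ(X, V), ∀ p, resR (hW p) R = r p k := fun k => by
    obtain ⟨R, hR, -⟩ := TopCat.Sheaf.existsUnique_gluing' X.sheaf W V (fun p => homOfLE (hW p))
      (fun p hp => Opens.mem_iSup.2 ⟨⟨p, hp⟩, hpW ⟨p, hp⟩⟩) (fun p => r p k) fun p q => by
        have h1 := congrArg (res M (inf_le_left : W p ⊓ W q ≤ W p)) (hr p)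
        have h2 := congrArg (res M (inf_le_right : W p ⊓ W q ≤ W q)) (hr q)
        rw [res_res, hres] at h1 h2
        exact congrFun (hinj _ _ (h1.symm.trans h2)) k
    exact ⟨R, hR⟩
  choose R hR using hglue
  refine ⟨R, eq_of_locally _ _ fun p hp => ⟨W ⟨p, hp⟩, hW _, hpW _, ?_⟩⟩
  rw [hres, hr]
  exact congrArg _ (funext fun k => hR k _)

/-- The tensor product on stalks. -/
theorem exists_stalk_tensor (E F : X.Modules) (x : X) :
    ∃ T : (E.presheaf.stalk x) ⊗[X.presheaf.stalk x] (F.presheaf.stalk x) →ₗ[X.presheaf.stalk x]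
        (CohB1.tensorMod E F).presheaf.stalk x,
      Function.Bijective T ∧ ∀ (W : X.Opens) (hxW : x ∈ W) (a : Γ(E, W)) (b : Γ(F, W)),
        T (E.presheaf.germ W x hxW a ⊗ₜ F.presheaf.germ W x hxW b) =
          (CohB1.tensorMod E F).presheaf.germ W x hxW (tmul a b) := by
  let P := CohB1.toPMod E
  let Q := CohB1.toPMod F
  haveI hi := KFlatLib.isIso_stalk_unitShP (x := x) (P ⊗ Q)
  let u := ((KFlatLib.stalkP x).map (KFlatLib.unitShP (P ⊗ Q)))
  let T₁ := (KFlatLib.tensorStalkEquiv (x := x) P Q).toLinearMap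
  refine ⟨u.hom.comp T₁,
    (ConcreteCategory.bijective_of_isIso u).comp (KFlatLib.tensorStalkEquiv (x := x) P Q).bijective,
    fun W hxW a b => ?_⟩
  have hT : T₁ (KFlatLib.germP P W hxW a ⊗ₜ KFlatLib.germP Q W hxW b) =
      KFlatLib.germP (P ⊗ Q) W hxW (KFlatLib.tm a b) := KFlatLib.ofTensor_germ W hxW a b
  show u.hom (T₁ (KFlatLib.germP P W hxW a ⊗ₜ KFlatLib.germP Q W hxW b)) = _
  rw [hT]
  exact KFlatLib.stalkModMap_germ _ W hxW _

/-- The products of two frames form a frame of the tensor product. -/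
theorem isFrame_tensor {e f : ℕ} {U : X.Opens} {b : Fin e → Γ(E, U)} {c : Fin f → Γ(F, U)}
    (hb : Frame.IsFrame E b) (hc : Frame.IsFrame F c) :
    Frame.IsFrame (CohB1.tensorMod E F)
      fun p : Fin (e * f) => tmul (b (finProdFinEquiv.symm p).1) (c (finProdFinEquiv.symm p).2) := by
  refine isFrame_of_gcomb fun x hx => ?_
  obtain ⟨T, hT, hTe⟩ := exists_stalk_tensor E F x
  let R := X.presheaf.stalk x
  let Lb : (Fin e → R) →ₗ[R] E.presheaf.stalk x :=
    Fintype.linearCombination R fun i => E.presheaf.germ U x hx (b i)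
  let Lc : (Fin f → R) →ₗ[R] F.presheaf.stalk x :=
    Fintype.linearCombination R fun i => F.presheaf.germ U x hx (c i)
  have hLb : Function.Bijective Lb := by
    rw [show (Lb : _ → _) = gcomb E b hx from funext fun _ => Fintype.linearCombination_apply _ _ _]
    exact gcomb_bijective hb hx
  have hLc : Function.Bijective Lc := by
    rw [show (Lc : _ → _) = gcomb F c hx from funext fun _ => Fintype.linearCombination_apply _ _ _]
    exact gcomb_bijective hc hx
  let Bb := Module.Basis.ofEquivFun (LinearEquiv.ofBijective Lb hLb).symm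
  let Bc := Module.Basis.ofEquivFun (LinearEquiv.ofBijective Lc hLc).symm
  have hBb : ∀ i, Bb i = E.presheaf.germ U x hx (b i) := fun i => by
    classical
    simp only [Bb, Module.Basis.coe_ofEquivFun]
    show Lb (Pi.single i 1) = _
    exact (Fintype.linearCombination_apply_single _ _ _ _).trans (one_smul _ _)
  have hBc : ∀ i, Bc i = F.presheaf.germ U x hx (c i) := fun i => by
    classical
    simp only [Bc, Module.Basis.coe_ofEquivFun]
    show Lc (Pi.single i 1) = _
    exact (Fintype.linearCombination_apply_single _ _ _ _).trans (one_smul _ _)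
  let B := (Bb.tensorProduct Bc).reindex finProdFinEquiv
  have key : gcomb (CohB1.tensorMod E F)
      (fun p : Fin (e * f) => tmul (b (finProdFinEquiv.symm p).1) (c (finProdFinEquiv.symm p).2)) hx =
      T ∘ B.equivFun.symm := by
    funext d
    rw [Function.comp_apply, Module.Basis.equivFun_symm_apply, map_sum]
    refine Finset.sum_congr rfl fun p _ => ?_
    rw [map_smul, Module.Basis.reindex_apply, Module.Basis.tensorProduct_apply, hBb, hBc, hTe]
  rw [key]
  exact hT.comp B.equivFun.symm.bijective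

end Groth.Agent.ExtDet90
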