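import Groth.Agent.ExtDet90.Twist
import Groth.Agent.ExtDet90.Frames
import Mathlib.LinearAlgebra.Matrix.Kronecker
import Mathlib.LinearAlgebra.Determinant
import Mathlib.LinearAlgebra.Multilinear.Basis

/-!
# The determinant of a tensor product
-/

set_option autoImplicit false
set_option linter.style.haveILetI false
set_option backward.isDefEq.respectTransparency false
set_option backward.isDefEq.respectTransparency.types false

universe u

open CategoryTheory AlgebraicGeometry TopologicalSpace Opposite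
open scoped Kronecker

noncomputable section

namespace Groth.Agent.ExtDet90

open Groth.Agent.AModX Groth.Agent.InvX Groth.Agent.H23 Groth.Agent.Div86 Groth.Agent.PicfLib

section Algebra

variable {A : Type*} [CommRing A] {P Q T : Type*} [AddCommGroup P] [Module A P] [AddCommGroup Q]
  [Module A Q] [AddCommGroup T] [Module A T] {n e f : ℕ}

/-- The top exterior power of a free module, by the determinant. -/
def detEquiv (B : Module.Basis (Fin n) A P) : ↥(⋀[A]^n P) ≃ₗ[A] A :=
  LinearEquiv.ofLinear (exteriorPower.alternatingMapLinearEquiv B.det)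
    (LinearMap.toSpanSingleton A _ (exteriorPower.ιMulti A n B))
    (by
      refine LinearMap.ext_ring ?_
      simp [Module.Basis.det_self])
    (by
      refine exteriorPower.linearMap_ext (Module.Basis.ext_alternating B fun v hv => ?_)
      let σ : Equiv.Perm (Fin n) := Equiv.ofBijective v (Finite.injective_iff_bijective.mp hv)
      simp only [LinearMap.compAlternatingMap_apply, LinearMap.comp_apply,
        exteriorPower.alternatingMapLinearEquiv_apply_ιMulti, LinearMap.toSpanSingleton_apply,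
        LinearMap.id_apply]
      rw [show (fun i => B (v i)) = (⇑B) ∘ σ from rfl, AlternatingMap.map_perm, AlternatingMap.map_perm,
        Module.Basis.det_self, smul_assoc, one_smul])

theorem detEquiv_ιMulti (B : Module.Basis (Fin n) A P) (v : Fin n → P) :
    detEquiv B (exteriorPower.ιMulti A n v) = B.det v :=
  exteriorPower.alternatingMapLinearEquiv_apply_ιMulti _ _

/-- The determinant of a product family. -/
theorem det_bilinear (τ : P →ₗ[A] Q →ₗ[A] T) (Bb : Module.Basis (Fin e) A P)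
    (Bc : Module.Basis (Fin f) A Q) (BT : Module.Basis (Fin (e * f)) A T)
    (hBT : ∀ p, BT p = τ (Bb (finProdFinEquiv.symm p).1) (Bc (finProdFinEquiv.symm p).2))
    (b : Fin e → P) (c : Fin f → Q) :
    BT.det (fun p => τ (b (finProdFinEquiv.symm p).1) (c (finProdFinEquiv.symm p).2)) =
      Bb.det b ^ f * Bc.det c ^ e := by
  rw [Module.Basis.det_apply, Module.Basis.det_apply, Module.Basis.det_apply]
  have hM : BT.toMatrix (fun p => τ (b (finProdFinEquiv.symm p).1) (c (finProdFinEquiv.symm p).2)) =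
      ((Bb.toMatrix b) ⊗ₖ (Bc.toMatrix c)).submatrix finProdFinEquiv.symm finProdFinEquiv.symm := by
    ext q p
    obtain ⟨⟨j, l⟩, rfl⟩ := finProdFinEquiv.surjective p
    have h : τ (b j) (c l) =
        ∑ q, (((Bb.toMatrix b) ⊗ₖ (Bc.toMatrix c)) (finProdFinEquiv.symm q) (j, l)) • BT q := by
      conv_lhs => rw [← Bb.sum_repr (b j), ← Bc.sum_repr (c l)]
      rw [← Equiv.sum_comp finProdFinEquiv]
      simp only [map_sum, LinearMap.sum_apply, map_smul, LinearMap.smul_apply, hBT,
        Equiv.symm_apply_apply, Matrix.kroneckerMap_apply, Module.Basis.toMatrix_apply]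
      rw [Fintype.sum_prod_type]
      simp only [Finset.smul_sum, smul_smul, mul_comm]
      rw [Finset.sum_comm]
    rw [Module.Basis.toMatrix_apply, Matrix.submatrix_apply, Equiv.symm_apply_apply, h,
      Module.Basis.repr_sum_self]
  rw [hM, Matrix.det_submatrix_equiv_self, Matrix.det_kronecker, Fintype.card_fin, Fintype.card_fin]

end Algebra

variable {X : Scheme.{u}} {M N : X.Modules} {n : ℕ}

theorem isFrame_of_affine {U : X.Opens} {s : Γ(M, U)}
    (h : ∀ V : X.Opens, IsAffineOpen V → ∀ hV : V ≤ U,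
      Function.Bijective fun r : Γ(X, V) => r • res M hV s) : InvX.IsFrame s := by
  have hinj : ∀ (W : X.Opens) (hW : W ≤ U), Function.Injective fun r : Γ(X, W) => r • res M hW s := by
    intro W hW r r' hrr
    refine eq_of_locally (M := Coh.structureModule X) r r' fun p hp => ?_
    obtain ⟨V, hV, hpV, hVW⟩ := exists_isAffineOpen_mem_and_subset (x := p) (U := W) hp
    have hVW' : V ≤ W := hVW
    refine ⟨V, hVW', hpV, (h V hV (hVW'.trans hW)).1 ?_⟩
    have h2 := congrArg (res M hVW') hrr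
    simp only [res_smul, res_res] at h2
    exact h2
  intro W hW
  refine ⟨hinj W hW, fun z => ?_⟩
  have hloc : ∀ p : W, ∃ (V : X.Opens) (hV : V ≤ W) (_ : p.1 ∈ V) (r : Γ(X, V)),
      res M hV z = r • res M (hV.trans hW) s := fun p => by
    obtain ⟨V, hV, hpV, hVW⟩ := exists_isAffineOpen_mem_and_subset (x := p.1) (U := W) p.2
    obtain ⟨r, hr⟩ := (h V hV (le_trans (show V ≤ W from hVW) hW)).2 (res M (show V ≤ W from hVW) z)
    exact ⟨V, hVW, hpV, r, hr.symm⟩
  choose V hV hpV r hr using hloc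
  obtain ⟨R, hR, -⟩ := existsUnique_glue (M := Coh.structureModule X) V hV
    (fun p hp => ⟨⟨p, hp⟩, hpV _⟩) r fun p q => by
      refine hinj _ (inf_le_left.trans ((hV p).trans hW)) ?_
      have h1 := congrArg (res M (inf_le_left : V p ⊓ V q ≤ V p)) (hr p)
      have h2 := congrArg (res M (inf_le_right : V p ⊓ V q ≤ V q)) (hr q)
      rw [res_res, res_smul, res_res] at h1 h2
      exact h1.symm.trans h2
  refine ⟨R, eq_of_locally _ _ fun p hp => ⟨V ⟨p, hp⟩, hV _, hpV _, ?_⟩⟩
  rw [res_smul, res_res, hr]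
  exact congrArg (· • _) (hR ⟨p, hp⟩)

theorem det_frame_self {U : X.Opens} {s : Fin n → Γ(M, U)} (hs : Frame.IsFrame M s) :
    (frameBasis hs).det s = 1 := by
  conv_lhs => arg 2; rw [← coe_frameBasis hs]
  exact Module.Basis.det_self _

section Top

variable {E D : X.Modules} (hD : ExtPow.IsExtPow n E D)

/-- The top exterior power over an affine open with a frame. -/
def topEquiv {U : X.Opens} (hU : IsAffineOpen U) {s : Fin n → Γ(E, U)} (hs : Frame.IsFrame E s) :
    Γ(D, U) ≃ₗ[Γ(X, U)] Γ(X, U) :=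
  (ExtP.chart hD hU).trans (detEquiv (frameBasis hs))

theorem topEquiv_wedge {U : X.Opens} (hU : IsAffineOpen U) {s : Fin n → Γ(E, U)}
    (hs : Frame.IsFrame E s) (v : Fin n → Γ(E, U)) :
    topEquiv hD hU hs (ExtP.wedge hD hU v) = (frameBasis hs).det v := by
  rw [topEquiv, LinearEquiv.trans_apply, ExtP.wedge, LinearEquiv.apply_symm_apply, detEquiv_ιMulti]

theorem eq_smul_wedge {U : X.Opens} (hU : IsAffineOpen U) {s : Fin n → Γ(E, U)}
    (hs : Frame.IsFrame E s) (x : Γ(D, U)) : x = topEquiv hD hU hs x • ExtP.wedge hD hU s := by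
  apply (topEquiv hD hU hs).injective
  rw [map_smul, topEquiv_wedge, det_frame_self, smul_eq_mul, mul_one]

theorem isFrame_wedge {U : X.Opens} (hU : IsAffineOpen U) {s : Fin n → Γ(E, U)}
    (hs : Frame.IsFrame E s) : InvX.IsFrame (ExtP.wedge hD hU s) := by
  refine isFrame_of_affine fun V hV h => ?_
  rw [ExtP.res_wedge hD hU hV h]
  refine Function.bijective_iff_has_inverse.mpr ⟨topEquiv hD hV (frame_res hs h), fun r => ?_, fun x => ?_⟩
  · rw [map_smul, topEquiv_wedge, det_frame_self, smul_eq_mul, mul_one]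
  · exact (eq_smul_wedge hD hV (frame_res hs h) x).symm

theorem topEquiv_res {U V : X.Opens} (hU : IsAffineOpen U) (hV : IsAffineOpen V) (h : V ≤ U)
    {s : Fin n → Γ(E, U)} (hs : Frame.IsFrame E s) {s' : Fin n → Γ(E, V)}
    (hs' : Frame.IsFrame E s') (x : Γ(D, U)) :
    topEquiv hD hV hs' (res D h x) =
      resR h (topEquiv hD hU hs x) * (frameBasis hs').det fun i => res E h (s i) := by
  conv_lhs => rw [eq_smul_wedge hD hU hs x]
  rw [res_smul, map_smul, ExtP.res_wedge hD hU hV h, topEquiv_wedge, smul_eq_mul]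

theorem wedge_eq {V : X.Opens} (hV : IsAffineOpen V) {s' : Fin n → Γ(E, V)}
    (hs' : Frame.IsFrame E s') (v : Fin n → Γ(E, V)) :
    ExtP.wedge hD hV v = (frameBasis hs').det v • ExtP.wedge hD hV s' := by
  rw [← topEquiv_wedge hD hV hs' v]
  exact eq_smul_wedge hD hV hs' _

end Top

variable {E F DE DF D : X.Modules} {e f : ℕ} (hDE : ExtPow.IsExtPow e E DE)
  (hDF : ExtPow.IsExtPow f F DF) (hD : ExtPow.IsExtPow (e * f) (CohB1.tensorMod E F) D)

/-- The generator of the target. -/
def gen {U : X.Opens} (hU : IsAffineOpen U) (b : Fin e → Γ(E, U)) (c : Fin f → Γ(F, U)) :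
    Γ(CohB1.tensorMod (CohB1.tensorPow DE f) (CohB1.tensorPow DF e), U) :=
  tmul (Trans.powSec (ExtP.wedge hDE hU b) f) (Trans.powSec (ExtP.wedge hDF hU c) e)

theorem isFrame_gen {U : X.Opens} (hU : IsAffineOpen U) {b : Fin e → Γ(E, U)}
    {c : Fin f → Γ(F, U)} (hb : Frame.IsFrame E b) (hc : Frame.IsFrame F c) :
    InvX.IsFrame (gen hDE hDF hU b c) :=
  isFrame_tmul (Trans.isFrame_powSec (isFrame_wedge hDE hU hb) f)
    (Trans.isFrame_powSec (isFrame_wedge hDF hU hc) e)

/-- The coordinate of a frame, as a linear equivalence. -/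
def coordEquiv {U : X.Opens} {s : Γ(M, U)} (hs : InvX.IsFrame s) : Γ(X, U) ≃ₗ[Γ(X, U)] Γ(M, U) :=
  LinearEquiv.ofBijective (LinearMap.toSpanSingleton Γ(X, U) Γ(M, U) s) (by
    have h := hs U le_rfl
    rw [show (fun r : Γ(X, U) => r • res M (le_refl U) s) = fun r => r • s from
      funext fun r => by rw [res_self]] at h
    exact h)

theorem coordEquiv_apply {U : X.Opens} {s : Γ(M, U)} (hs : InvX.IsFrame s) (r : Γ(X, U)) :
    coordEquiv hs r = r • s :=
  rfl

/-- The local isomorphism. -/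
def detLocal {U : X.Opens} (hU : IsAffineOpen U) {b : Fin e → Γ(E, U)} {c : Fin f → Γ(F, U)}
    (hb : Frame.IsFrame E b) (hc : Frame.IsFrame F c) :
    Γ(D, U) ≃ₗ[Γ(X, U)] Γ(CohB1.tensorMod (CohB1.tensorPow DE f) (CohB1.tensorPow DF e), U) :=
  (topEquiv hD hU (isFrame_tensor hb hc)).trans (coordEquiv (isFrame_gen hDE hDF hU hb hc))

/-- Tensor product of sections, bilinearly. -/
def tmulLin (E F : X.Modules) (U : X.Opens) :
    Γ(E, U) →ₗ[Γ(X, U)] Γ(F, U) →ₗ[Γ(X, U)] Γ(CohB1.tensorMod E F, U) :=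
  LinearMap.mk₂ Γ(X, U) (fun a b => tmul a b) (fun a a' b => AmpleVan.tmul_add_left a a' b)
    (fun r a b => tmul_smul_left r a b) (fun a b b' => (congrArg _ (KFlatLib.tm_add_right a b b')).trans (map_add _ _ _))
    (fun r a b => tmul_smul_right r a b)

theorem det_tensor {U : X.Opens} {b b' : Fin e → Γ(E, U)} {c c' : Fin f → Γ(F, U)}
    (hb : Frame.IsFrame E b') (hc : Frame.IsFrame F c') :
    (frameBasis (isFrame_tensor hb hc)).det
        (fun p => tmul (b (finProdFinEquiv.symm p).1) (c (finProdFinEquiv.symm p).2)) =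
      (frameBasis hb).det b ^ f * (frameBasis hc).det c ^ e :=
  det_bilinear (tmulLin E F U) (frameBasis hb) (frameBasis hc) (frameBasis (isFrame_tensor hb hc))
    (fun p => by rw [frameBasis_apply, frameBasis_apply, frameBasis_apply]; rfl) b c

include hDE hDF hD in
/-- `det (E ⊗ F) ≅ det E ^ f ⊗ det F ^ e`. -/
theorem nonempty_iso_det (hE : FlatMod.IsFinLocFreeOfRank e E) (hF : FlatMod.IsFinLocFreeOfRank f F) :
    Nonempty (D ≅ CohB1.tensorMod (CohB1.tensorPow DE f) (CohB1.tensorPow DF e)) := by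
  refine nonempty_iso
    (Q := fun U : X.affineOpens => (∃ b : Fin e → Γ(E, U.1), Frame.IsFrame E b) ∧
      ∃ c : Fin f → Γ(F, U.1), Frame.IsFrame F c)
    (fun U V h ⟨⟨b, hb⟩, c, hc⟩ => ⟨⟨_, frame_res hb h⟩, _, frame_res hc h⟩) (fun x => ?_)
    (fun U hU => detLocal hDE hDF hD U.2 hU.1.choose_spec hU.2.choose_spec) fun U V h hU hV x => ?_
  · obtain ⟨U₁, hx₁, ⟨φ⟩⟩ := hE x
    obtain ⟨U₂, hx₂, ⟨ψ⟩⟩ := hF x
    obtain ⟨b, hb⟩ := Frame.exists_frame φ
    obtain ⟨c, hc⟩ := Frame.exists_frame ψ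
    obtain ⟨V, hV, hxV, hVU⟩ :=
      exists_isAffineOpen_mem_and_subset (x := x) (U := U₁ ⊓ U₂) ⟨hx₁, hx₂⟩
    exact ⟨⟨V, hV⟩, ⟨⟨_, frame_res hb (fun y hy => (hVU hy).1)⟩,
      _, frame_res hc (fun y hy => (hVU hy).2)⟩, hxV⟩
  set b := hU.1.choose
  have hb : Frame.IsFrame E b := hU.1.choose_spec
  set c := hU.2.choose
  have hc : Frame.IsFrame F c := hU.2.choose_spec
  set b' := hV.1.choose
  have hb' : Frame.IsFrame E b' := hV.1.choose_spec
  set c' := hV.2.choose
  have hc' : Frame.IsFrame F c' := hV.2.choose_spec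
  simp only [detLocal, LinearEquiv.trans_apply, coordEquiv_apply]
  rw [topEquiv_res hD U.2 V.2 h (isFrame_tensor hb hc) (isFrame_tensor hb' hc'), res_smul]
  have e1 : (fun p : Fin (e * f) => res (CohB1.tensorMod E F) h
      (tmul (b (finProdFinEquiv.symm p).1) (c (finProdFinEquiv.symm p).2))) =
      fun p => tmul ((fun i => res E h (b i)) (finProdFinEquiv.symm p).1)
        ((fun i => res F h (c i)) (finProdFinEquiv.symm p).2) :=
    funext fun p => res_tmul h _ _
  rw [e1, det_tensor (b := fun i => res E h (b i)) (c := fun i => res F h (c i)) hb' hc', gen, res_tmul, Trans.res_powSec, Trans.res_powSec,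
    ExtP.res_wedge hDE U.2 V.2 h, ExtP.res_wedge hDF U.2 V.2 h, wedge_eq hDE V.2 hb',
    wedge_eq hDF V.2 hc', Trans.powSec_smul, Trans.powSec_smul, tmul_smul_left, tmul_smul_right,
    gen, smul_smul, smul_smul, mul_assoc]

end Groth.Agent.ExtDet90
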