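import Groth.Agent.ExtDet90.Basis
import Groth.Agent.Div86.ExtPow.Sheaf
import Groth.Agent.H44Adj.Twist
import Groth.Agent.PicfLib.Trans
import Groth.Agent.H23.Frame
import Groth.Prelude.Def_ExtPow2
import Groth.Prelude.Def_FlatMod2

/-!
# Exterior powers of a twist by a line bundle
-/

set_option autoImplicit false
set_option linter.style.haveILetI false
set_option backward.isDefEq.respectTransparency false
set_option backward.isDefEq.respectTransparency.types false

universe u

open CategoryTheory AlgebraicGeometry TopologicalSpace Opposite Groth.Agent.InvX Groth.Agent.Div86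

noncomputable section

namespace Groth.Agent.ExtDet90

open Groth.Agent.AModX Groth.Agent.PicfLib

variable {X : Scheme.{u}}

/-- A module of rank one has frames near every point. -/
theorem exists_frame_one {L : X.Modules} (hL : FlatMod.IsFinLocFreeOfRank 1 L) (x : X) :
    ∃ (U : X.Opens) (_ : x ∈ U) (e : Γ(L, U)), IsFrame e := by
  obtain ⟨U, hxU, ⟨φ⟩⟩ := hL x
  obtain ⟨s, hs⟩ := H23.Frame.exists_frame φ
  refine ⟨U, hxU, s 0, fun V h => ?_⟩
  have e : (fun r : Γ(X, V) => r • res L h (s 0)) =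
      H23.Frame.comb L s V h ∘ fun r : Γ(X, V) => fun _ : Fin 1 => r := by
    funext r
    exact (Fin.sum_univ_one (fun i => r • L.presheaf.map (homOfLE h).op (s i))).symm
  rw [e]
  exact (hs V h).comp (Equiv.funUnique (Fin 1) Γ(X, V)).symm.bijective

/-- Tensoring with a frame, as a linear equivalence. -/
def twistEquiv (E : X.Modules) {L : X.Modules} {U : X.Opens} {l : Γ(L, U)} (hl : IsFrame l) :
    Γ(E, U) ≃ₗ[Γ(X, U)] Γ(CohB1.tensorMod E L, U) :=
  LinearEquiv.ofBijective
    { toFun := fun a => tmul a l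
      map_add' := fun a b => AmpleVan.tmul_add_left a b l
      map_smul' := fun r a => tmul_smul_left r a l }
    (H44Adj.tmul_frame_bijective hl)

@[simp] theorem twistEquiv_apply (E : X.Modules) {L : X.Modules} {U : X.Opens} {l : Γ(L, U)}
    (hl : IsFrame l) (a : Γ(E, U)) : twistEquiv E hl a = tmul a l := rfl

/-- Exterior powers of a linear equivalence. -/
def extEquiv {A : Type*} [CommRing A] {P P' : Type*} [AddCommGroup P] [Module A P] [AddCommGroup P']
    [Module A P'] (k : ℕ) (f : P ≃ₗ[A] P') : ↥(⋀[A]^k P) ≃ₗ[A] ↥(⋀[A]^k P') :=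
  LinearEquiv.ofLinear (exteriorPower.map k f.toLinearMap) (exteriorPower.map k f.symm.toLinearMap)
    (by rw [← exteriorPower.map_comp]; simp [exteriorPower.map_id])
    (by rw [← exteriorPower.map_comp]; simp [exteriorPower.map_id])

theorem extEquiv_ιMulti {A : Type*} [CommRing A] {P P' : Type*} [AddCommGroup P] [Module A P]
    [AddCommGroup P'] [Module A P'] (k : ℕ) (f : P ≃ₗ[A] P') (v : Fin k → P) :
    extEquiv k f (exteriorPower.ιMulti A k v) = exteriorPower.ιMulti A k fun i => f (v i) :=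
  exteriorPower.map_apply_ιMulti _ _

variable {E L M N : X.Modules} {k : ℕ} (hM : ExtPow.IsExtPow k (CohB1.tensorMod E L) M)
  (hN : ExtPow.IsExtPow k E N)

/-- The local isomorphism. -/
def localEquiv {U : X.Opens} (hU : IsAffineOpen U) {l : Γ(L, U)} (hl : IsFrame l) :
    Γ(M, U) ≃ₗ[Γ(X, U)] Γ(CohB1.tensorMod N (CohB1.tensorPow L k), U) :=
  ((ExtP.chart hM hU).trans (extEquiv k (twistEquiv E hl).symm)).trans
    ((ExtP.chart hN hU).symm.trans (twistEquiv N (Trans.isFrame_powSec hl k)))

theorem localEquiv_wedge {U : X.Opens} (hU : IsAffineOpen U) {l : Γ(L, U)} (hl : IsFrame l)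
    (a : Fin k → Γ(E, U)) :
    localEquiv hM hN hU hl (ExtP.wedge hM hU fun j => tmul (a j) l) =
      tmul (ExtP.wedge hN hU a) (Trans.powSec l k) := by
  have h : ExtP.chart hM hU (ExtP.wedge hM hU fun j => tmul (a j) l) =
      exteriorPower.ιMulti Γ(X, U) k fun j => tmul (a j) l := LinearEquiv.apply_symm_apply _ _
  simp only [localEquiv, LinearEquiv.trans_apply, h, extEquiv_ιMulti]
  have h2 : (fun i => (twistEquiv E hl).symm (tmul (a i) l)) = a := funext fun i =>
    (twistEquiv E hl).symm_apply_apply (a i)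
  rw [h2]
  rfl

theorem wedge_smul {i : ℕ} {F W : X.Modules} (hW : ExtPow.IsExtPow i F W) {U : X.Opens}
    (hU : IsAffineOpen U) (g : Γ(X, U)) (e : Fin i → Γ(F, U)) :
    ExtP.wedge hW hU (fun j => g • e j) = g ^ i • ExtP.wedge hW hU e := by
  have h : exteriorPower.ιMulti Γ(X, U) i (fun j => g • e j) =
      g ^ i • exteriorPower.ιMulti Γ(X, U) i e := by
    rw [AlternatingMap.map_smul_univ]
    simp
  simp only [ExtP.wedge, h, map_smul]

include hM hN in
/-- `Λ^k (E ⊗ L) ≅ Λ^k E ⊗ L^k`. -/
theorem nonempty_iso_twist (hL : FlatMod.IsFinLocFreeOfRank 1 L) :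
    Nonempty (M ≅ CohB1.tensorMod N (CohB1.tensorPow L k)) := by
  refine nonempty_iso (Q := fun U : X.affineOpens => ∃ l : Γ(L, U.1), IsFrame l)
    (fun U V h ⟨l, hl⟩ => ⟨res L h l, hl.res h⟩) (fun x => ?_)
    (fun U hU => localEquiv hM hN U.2 hU.choose_spec) fun U V h hU hV x => ?_
  · obtain ⟨U, hxU, l, hl⟩ := exists_frame_one hL x
    obtain ⟨V, hV, hxV, hVU⟩ := exists_isAffineOpen_mem_and_subset (x := x) (U := U) hxU
    exact ⟨⟨V, hV⟩, ⟨res L hVU l, hl.res hVU⟩, hxV⟩
  set l := hU.choose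
  have hl : IsFrame l := hU.choose_spec
  set l' := hV.choose
  have hl' : IsFrame l' := hV.choose_spec
  obtain ⟨g, hg⟩ := hl'.exists_coord le_rfl (res L h l)
  rw [res_self] at hg
  induction x using ExtP.wedge_induction hM U.2 with
  | h0 => simp
  | hadd a b ha hb => rw [map_add, map_add, map_add, map_add, ha, hb]
  | hsmul r a ha => rw [map_smul, res_smul, res_smul, ha, map_smul]
  | hw e =>
    obtain ⟨a, ha⟩ : ∃ a : Fin k → Γ(E, U.1), (fun j => tmul (a j) l) = e :=
      ⟨fun j => (twistEquiv E hl).symm (e j), funext fun j => (twistEquiv E hl).apply_symm_apply (e j)⟩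
    subst ha
    rw [localEquiv_wedge hM hN U.2 hl, res_tmul, ExtP.res_wedge hM U.2 V.2 h, ExtP.res_wedge hN U.2 V.2 h,
      Trans.res_powSec, hg, Trans.powSec_smul, tmul_smul_right]
    have e1 : (fun j => res (CohB1.tensorMod E L) h (tmul (a j) l)) =
        fun j => tmul (g • res E h (a j)) l' := funext fun j => by
      rw [res_tmul, hg, tmul_smul_right, tmul_smul_left]
    rw [e1, localEquiv_wedge hM hN V.2 hl', wedge_smul hN V.2, tmul_smul_left]

end Groth.Agent.ExtDet90
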